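import Mathlib
/-!
Closures of images of quasi-compact morphisms, maximal points, and well-foundedness of
generalisation in locally noetherian schemes.
-/
universe u
open AlgebraicGeometry CategoryTheory TopologicalSpace
set_option backward.isDefEq.respectTransparency false

namespace Groth.Agent.DomLib

/-- every point of the closure of the image of a quasi-compact morphism generalises to a point of
the image -/
theorem exists_specializes {X Y : Scheme.{u}} (f : X ⟶ Y) [QuasiCompact f] {y : Y}
    (hy : y ∈ closure (Set.range f)) : ∃ x, f x ⤳ y := by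
  obtain ⟨V, hV, hyV, -⟩ := exists_isAffineOpen_mem_and_subset (show y ∈ (⊤ : Y.Opens) from trivial)
  have : CompactSpace (f ⁻¹ᵁ V : Scheme.{u}) := isCompact_iff_compactSpace.mp
    (QuasiCompact.isCompact_preimage (f := f) _ V.2 hV.isCompact)
  obtain ⟨R, g, hg⟩ := compactSpace_iff_exists.mp this
  obtain ⟨φ, hφ⟩ := Spec.homEquiv.symm.surjective (g ≫ (f ∣_ V) ≫ hV.isoSpec.hom)
  let p : PrimeSpectrum Γ(Y, V) := hV.primeIdealOf ⟨y, hyV⟩
  have hcomp : ∀ q : Spec R, hV.fromSpec (Spec.homEquiv.symm φ q) = f ((f ⁻¹ᵁ V).ι (g q)) := by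
    intro q
    rw [← Scheme.Hom.comp_apply, hφ, Category.assoc, Category.assoc, IsAffineOpen.isoSpec_hom,
      IsAffineOpen.toSpecΓ_fromSpec, morphismRestrict_ι, Scheme.Hom.comp_apply, Scheme.Hom.comp_apply]
  have hp : p ∈ closure (Set.range (PrimeSpectrum.comap φ.hom)) := by
    refine mem_closure_iff.2 fun O hO hpO => ?_
    obtain ⟨_, ⟨z, hz, rfl⟩, x, hx⟩ := mem_closure_iff.1 hy (hV.fromSpec '' O)
      (hV.fromSpec.isOpenEmbedding.isOpenMap _ hO) ⟨p, hpO, hV.fromSpec_primeIdealOf ⟨y, hyV⟩⟩
    have hxV : f x ∈ V := by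
      rw [hx, ← SetLike.mem_coe, ← hV.range_fromSpec]; exact ⟨z, rfl⟩
    obtain ⟨q, hq⟩ := hg ⟨x, hxV⟩
    refine ⟨z, hz, q, hV.fromSpec.isOpenEmbedding.injective ?_⟩
    exact (hcomp q).trans ((congrArg f (congrArg (f ⁻¹ᵁ V).ι hq)).trans hx)
  rw [PrimeSpectrum.closure_range_comap, PrimeSpectrum.mem_zeroLocus] at hp
  haveI := p.2
  obtain ⟨q, hq, hqp⟩ := Ideal.exists_minimalPrimes_le (J := p.asIdeal) hp
  rw [RingHom.ker_eq_comap_bot] at hq
  obtain ⟨q', hq', -, hcq⟩ := Ideal.exists_comap_eq_of_mem_minimalPrimes φ.hom q hq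
  refine ⟨(f ⁻¹ᵁ V).ι (g ⟨q', hq'⟩), ?_⟩
  rw [← hcomp]
  have h : Spec.homEquiv.symm φ ⟨q', hq'⟩ ⤳ (p : Spec Γ(Y, V)) := by
    refine ((PrimeSpectrum.le_iff_specializes _ p).1 ?_)
    change q'.comap φ.hom ≤ p.asIdeal
    rw [hcq]; exact hqp
  have h2 := h.map hV.fromSpec.continuous
  rwa [hV.fromSpec_primeIdealOf ⟨y, hyV⟩] at h2

/-- maximal points only generalise to themselves -/
theorem eq_of_specializes_max {X : Type*} [TopologicalSpace X] [T0Space X] {x y : X}
    (hy : closure ({y} : Set X) ∈ irreducibleComponents X) (h : x ⤳ y) : x = y := by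
  have h1 : closure ({x} : Set X) ⊆ closure {y} := hy.2 isIrreducible_singleton.closure
    (closure_minimal (Set.singleton_subset_iff.2 (specializes_iff_mem_closure.1 h)) isClosed_closure)
  exact (h.antisymm (specializes_iff_mem_closure.2 (h1 (subset_closure rfl)))).eq

/-- every point has a maximal generalisation -/
theorem exists_max {X : Scheme.{u}} (x : X) :
    ∃ η : X, closure ({η} : Set X) ∈ irreducibleComponents (X : Type u) ∧ η ⤳ x := by
  have hirr : IsIrreducible (irreducibleComponent x) := isIrreducible_irreducibleComponent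
  have h : closure ({hirr.genericPoint} : Set X) = irreducibleComponent x :=
    hirr.closure_genericPoint isClosed_irreducibleComponent
  exact ⟨hirr.genericPoint, h.symm ▸ irreducibleComponent_mem_irreducibleComponents x,
    specializes_iff_mem_closure.2 (h.symm ▸ mem_irreducibleComponent)⟩

theorem mem_range_of_max {X Y : Scheme.{u}} (f : X ⟶ Y) [QuasiCompact f] {y : Y}
    (hmax : closure ({y} : Set Y) ∈ irreducibleComponents (Y : Type u))
    (hy : y ∈ closure (Set.range f)) : y ∈ Set.range f := by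
  obtain ⟨x, hx⟩ := exists_specializes f hy
  exact ⟨x, eq_of_specializes_max hmax hx⟩

/-- no infinite sequence of strict generalisations in a locally noetherian scheme -/
theorem wf_gen (S : Scheme.{u}) [IsLocallyNoetherian S] :
    WellFounded fun a b : S => a ⤳ b ∧ a ≠ b := by
  haveI : IsStrictOrder S (fun a b : S => a ⤳ b ∧ a ≠ b) :=
    { irrefl := fun a h => h.2 rfl
      trans := fun a b c h1 h2 => ⟨h1.1.trans h2.1, fun h => h1.2 (h1.1.antisymm (h ▸ h2.1)).eq⟩ }
  refine RelEmbedding.wellFounded_iff_isEmpty.2 ⟨fun e => ?_⟩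
  let O := S.presheaf.stalk (e 0)
  have hr : ∀ n, ∃ q : Spec O, S.fromSpecStalk (e 0) q = e n := fun n => by
    have hmem : e n ∈ Set.range (S.fromSpecStalk (e 0)) := by
      rw [Scheme.range_fromSpecStalk]
      change e n ⤳ e 0
      rcases Nat.eq_zero_or_pos n with rfl | hn
      · exact specializes_rfl
      · exact (e.map_rel_iff.2 (show n > 0 from hn)).1
    exact hmem
  choose q hq using hr
  have hlt : ∀ n, (q (n + 1)).asIdeal.height < (q n).asIdeal.height := fun n => by
    have h := e.map_rel_iff.2 (show n + 1 > n from n.lt_succ_self)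
    haveI := (q (n + 1)).2
    haveI := (q n).2
    refine Ideal.height_strict_mono_of_isPrime_of_isPrime (lt_of_le_of_ne ?_ ?_)
    · refine ((PrimeSpectrum.le_iff_specializes (q (n+1) : PrimeSpectrum O) (q n)).2 ?_)
      refine (S.fromSpecStalk (e 0)).isEmbedding.isInducing.specializes_iff.1 ?_
      rw [hq, hq]; exact h.1
    · intro heq
      exact h.2 ((hq (n+1)).symm.trans ((congrArg _ (PrimeSpectrum.ext heq)).trans (hq n)))
  exact not_strictAnti_of_wellFoundedLT (fun n => (q n).asIdeal.height) (strictAnti_nat_of_succ_lt hlt)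

end Groth.Agent.DomLib
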